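import Cfsg.Agent.Lib.Helper9.TCData.Fi22C1.Main

set_option autoImplicit false
set_option maxRecDepth 1000000

namespace Cfsg.Agent.Helper9.TCData.Fi22C1
open Cfsg.Agent.Helper9.TC2

theorem ma_4 : allRange 2760 399 (fun u => chkAux tab aux u) = true := by decide +kernel

theorem m2_0 : allRange 0 92 (fun u => chkFix tab mwordsA u) = true := by decide +kernel

theorem m2_1 : allRange 92 92 (fun u => chkFix tab mwordsA u) = true := by decide +kernel

theorem m2_2 : allRange 184 92 (fun u => chkFix tab mwordsA u) = true := by decide +kernel

theorem m2_3 : allRange 276 92 (fun u => chkFix tab mwordsA u) = true := by decide +kernel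

theorem m2_4 : allRange 368 92 (fun u => chkFix tab mwordsA u) = true := by decide +kernel

theorem m2_5 : allRange 460 92 (fun u => chkFix tab mwordsA u) = true := by decide +kernel

theorem m2_6 : allRange 552 92 (fun u => chkFix tab mwordsA u) = true := by decide +kernel


end Cfsg.Agent.Helper9.TCData.Fi22C1
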