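import Cfsg.Agent.Lib.Helper9.TCData.Fi22C1.Main

set_option autoImplicit false
set_option maxRecDepth 1000000

namespace Cfsg.Agent.Helper9.TCData.Fi22C1
open Cfsg.Agent.Helper9.TC2

theorem e2_2 : allRange 4432 2311 (fun u => chkE tab 2 u) = true := by decide +kernel

theorem e2_3 : allRange 6743 2333 (fun u => chkE tab 2 u) = true := by decide +kernel

theorem e2_4 : allRange 9076 2421 (fun u => chkE tab 2 u) = true := by decide +kernel

theorem e2_5 : allRange 11497 3264 (fun u => chkE tab 2 u) = true := by decide +kernel

theorem e2_6 : allRange 14761 2277 (fun u => chkE tab 2 u) = true := by decide +kernel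

theorem e3_0 : allRange 0 2461 (fun u => chkE tab 3 u) = true := by decide +kernel

theorem e3_1 : allRange 2461 2243 (fun u => chkE tab 3 u) = true := by decide +kernel

theorem e3_2 : allRange 4704 2192 (fun u => chkE tab 3 u) = true := by decide +kernel


end Cfsg.Agent.Helper9.TCData.Fi22C1
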