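import Cfsg.Agent.Lib.Helper9.TCData.Fi22C1.Main

set_option autoImplicit false
set_option maxRecDepth 1000000

namespace Cfsg.Agent.Helper9.TCData.Fi22C1
open Cfsg.Agent.Helper9.TC2

theorem e7_0 : allRange 0 2350 (fun u => chkE tab 7 u) = true := by decide +kernel

theorem e7_1 : allRange 2350 2696 (fun u => chkE tab 7 u) = true := by decide +kernel

theorem e7_2 : allRange 5046 3428 (fun u => chkE tab 7 u) = true := by decide +kernel

theorem e7_3 : allRange 8474 3588 (fun u => chkE tab 7 u) = true := by decide +kernel

theorem e7_4 : allRange 12062 4976 (fun u => chkE tab 7 u) = true := by decide +kernel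


end Cfsg.Agent.Helper9.TCData.Fi22C1
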