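import Cfsg.Agent.Lib.Helper9.TCData.Fi22C1.S0
import Cfsg.Agent.Lib.Helper9.TCData.Fi22C1.S1
import Cfsg.Agent.Lib.Helper9.TCData.Fi22C1.S2
import Cfsg.Agent.Lib.Helper9.TCData.Fi22C1.S3
import Cfsg.Agent.Lib.Helper9.TCData.Fi22C1.S4
import Cfsg.Agent.Lib.Helper9.TCData.Fi22C1.S5
import Cfsg.Agent.Lib.Helper9.TCData.Fi22C1.S6
import Cfsg.Agent.Lib.Helper9.TCData.Fi22C1.S7
import Cfsg.Agent.Lib.Helper9.TCData.Fi22C1.S8
import Cfsg.Agent.Lib.Helper9.TCData.Fi22C1.S9
import Cfsg.Agent.Lib.Helper9.TCData.Fi22C1.S10
import Cfsg.Agent.Lib.Helper9.TCData.Fi22C1.S11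
import Cfsg.Agent.Lib.Helper9.TCData.Fi22C1.S12
import Cfsg.Agent.Lib.Helper9.TCData.Fi22C1.S13
import Cfsg.Agent.Lib.Helper9.TCData.Fi22C1.S14
import Cfsg.Agent.Lib.Helper9.TCData.Fi22C1.S15
import Cfsg.Agent.Lib.Helper9.TCData.Fi22C1.S16
import Cfsg.Agent.Lib.Helper9.TCData.Fi22C1.S17

set_option autoImplicit false
set_option maxRecDepth 1000000

namespace Cfsg.Agent.Helper9.TCData.Fi22C1
open Cfsg.Agent.Helper9.TC2


theorem hE0 : ∀ u < 17038, chkE tab 0 u = true := by
  have h0 : ∀ u < 0, (fun u => chkE tab 0 u) u = true := range_zero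
  have h1 : ∀ u < 2146, (fun u => chkE tab 0 u) u = true := ext_range (a := 0) (len := 2146) h0 e0_0
  have h2 : ∀ u < 4295, (fun u => chkE tab 0 u) u = true := ext_range (a := 2146) (len := 2149) h1 e0_1
  have h3 : ∀ u < 6431, (fun u => chkE tab 0 u) u = true := ext_range (a := 4295) (len := 2136) h2 e0_2
  have h4 : ∀ u < 8633, (fun u => chkE tab 0 u) u = true := ext_range (a := 6431) (len := 2202) h3 e0_3
  have h5 : ∀ u < 10829, (fun u => chkE tab 0 u) u = true := ext_range (a := 8633) (len := 2196) h4 e0_4
  have h6 : ∀ u < 13058, (fun u => chkE tab 0 u) u = true := ext_range (a := 10829) (len := 2229) h5 e0_5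
  have h7 : ∀ u < 17038, (fun u => chkE tab 0 u) u = true := ext_range (a := 13058) (len := 3980) h6 e0_6
  exact h7

theorem hE1 : ∀ u < 17038, chkE tab 1 u = true := by
  have h0 : ∀ u < 0, (fun u => chkE tab 1 u) u = true := range_zero
  have h1 : ∀ u < 2181, (fun u => chkE tab 1 u) u = true := ext_range (a := 0) (len := 2181) h0 e1_0
  have h2 : ∀ u < 4333, (fun u => chkE tab 1 u) u = true := ext_range (a := 2181) (len := 2152) h1 e1_1
  have h3 : ∀ u < 6493, (fun u => chkE tab 1 u) u = true := ext_range (a := 4333) (len := 2160) h2 e1_2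
  have h4 : ∀ u < 8681, (fun u => chkE tab 1 u) u = true := ext_range (a := 6493) (len := 2188) h3 e1_3
  have h5 : ∀ u < 10911, (fun u => chkE tab 1 u) u = true := ext_range (a := 8681) (len := 2230) h4 e1_4
  have h6 : ∀ u < 13203, (fun u => chkE tab 1 u) u = true := ext_range (a := 10911) (len := 2292) h5 e1_5
  have h7 : ∀ u < 17038, (fun u => chkE tab 1 u) u = true := ext_range (a := 13203) (len := 3835) h6 e1_6
  exact h7

theorem hE2 : ∀ u < 17038, chkE tab 2 u = true := by
  have h0 : ∀ u < 0, (fun u => chkE tab 2 u) u = true := range_zero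
  have h1 : ∀ u < 2261, (fun u => chkE tab 2 u) u = true := ext_range (a := 0) (len := 2261) h0 e2_0
  have h2 : ∀ u < 4432, (fun u => chkE tab 2 u) u = true := ext_range (a := 2261) (len := 2171) h1 e2_1
  have h3 : ∀ u < 6743, (fun u => chkE tab 2 u) u = true := ext_range (a := 4432) (len := 2311) h2 e2_2
  have h4 : ∀ u < 9076, (fun u => chkE tab 2 u) u = true := ext_range (a := 6743) (len := 2333) h3 e2_3
  have h5 : ∀ u < 11497, (fun u => chkE tab 2 u) u = true := ext_range (a := 9076) (len := 2421) h4 e2_4
  have h6 : ∀ u < 14761, (fun u => chkE tab 2 u) u = true := ext_range (a := 11497) (len := 3264) h5 e2_5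
  have h7 : ∀ u < 17038, (fun u => chkE tab 2 u) u = true := ext_range (a := 14761) (len := 2277) h6 e2_6
  exact h7

theorem hE3 : ∀ u < 17038, chkE tab 3 u = true := by
  have h0 : ∀ u < 0, (fun u => chkE tab 3 u) u = true := range_zero
  have h1 : ∀ u < 2461, (fun u => chkE tab 3 u) u = true := ext_range (a := 0) (len := 2461) h0 e3_0
  have h2 : ∀ u < 4704, (fun u => chkE tab 3 u) u = true := ext_range (a := 2461) (len := 2243) h1 e3_1
  have h3 : ∀ u < 6896, (fun u => chkE tab 3 u) u = true := ext_range (a := 4704) (len := 2192) h2 e3_2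
  have h4 : ∀ u < 9153, (fun u => chkE tab 3 u) u = true := ext_range (a := 6896) (len := 2257) h3 e3_3
  have h5 : ∀ u < 11491, (fun u => chkE tab 3 u) u = true := ext_range (a := 9153) (len := 2338) h4 e3_4
  have h6 : ∀ u < 14486, (fun u => chkE tab 3 u) u = true := ext_range (a := 11491) (len := 2995) h5 e3_5
  have h7 : ∀ u < 17038, (fun u => chkE tab 3 u) u = true := ext_range (a := 14486) (len := 2552) h6 e3_6
  exact h7

theorem hE4 : ∀ u < 17038, chkE tab 4 u = true := by
  have h0 : ∀ u < 0, (fun u => chkE tab 4 u) u = true := range_zero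
  have h1 : ∀ u < 2419, (fun u => chkE tab 4 u) u = true := ext_range (a := 0) (len := 2419) h0 e4_0
  have h2 : ∀ u < 4865, (fun u => chkE tab 4 u) u = true := ext_range (a := 2419) (len := 2446) h1 e4_1
  have h3 : ∀ u < 7075, (fun u => chkE tab 4 u) u = true := ext_range (a := 4865) (len := 2210) h2 e4_2
  have h4 : ∀ u < 9275, (fun u => chkE tab 4 u) u = true := ext_range (a := 7075) (len := 2200) h3 e4_3
  have h5 : ∀ u < 11496, (fun u => chkE tab 4 u) u = true := ext_range (a := 9275) (len := 2221) h4 e4_4
  have h6 : ∀ u < 14310, (fun u => chkE tab 4 u) u = true := ext_range (a := 11496) (len := 2814) h5 e4_5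
  have h7 : ∀ u < 17038, (fun u => chkE tab 4 u) u = true := ext_range (a := 14310) (len := 2728) h6 e4_6
  exact h7

theorem hE5 : ∀ u < 17038, chkE tab 5 u = true := by
  have h0 : ∀ u < 0, (fun u => chkE tab 5 u) u = true := range_zero
  have h1 : ∀ u < 2260, (fun u => chkE tab 5 u) u = true := ext_range (a := 0) (len := 2260) h0 e5_0
  have h2 : ∀ u < 4941, (fun u => chkE tab 5 u) u = true := ext_range (a := 2260) (len := 2681) h1 e5_1
  have h3 : ∀ u < 7411, (fun u => chkE tab 5 u) u = true := ext_range (a := 4941) (len := 2470) h2 e5_2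
  have h4 : ∀ u < 9776, (fun u => chkE tab 5 u) u = true := ext_range (a := 7411) (len := 2365) h3 e5_3
  have h5 : ∀ u < 12020, (fun u => chkE tab 5 u) u = true := ext_range (a := 9776) (len := 2244) h4 e5_4
  have h6 : ∀ u < 15666, (fun u => chkE tab 5 u) u = true := ext_range (a := 12020) (len := 3646) h5 e5_5
  have h7 : ∀ u < 17038, (fun u => chkE tab 5 u) u = true := ext_range (a := 15666) (len := 1372) h6 e5_6
  exact h7

theorem hE6 : ∀ u < 17038, chkE tab 6 u = true := by
  have h0 : ∀ u < 0, (fun u => chkE tab 6 u) u = true := range_zero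
  have h1 : ∀ u < 2436, (fun u => chkE tab 6 u) u = true := ext_range (a := 0) (len := 2436) h0 e6_0
  have h2 : ∀ u < 5312, (fun u => chkE tab 6 u) u = true := ext_range (a := 2436) (len := 2876) h1 e6_1
  have h3 : ∀ u < 8369, (fun u => chkE tab 6 u) u = true := ext_range (a := 5312) (len := 3057) h2 e6_2
  have h4 : ∀ u < 11215, (fun u => chkE tab 6 u) u = true := ext_range (a := 8369) (len := 2846) h3 e6_3
  have h5 : ∀ u < 14508, (fun u => chkE tab 6 u) u = true := ext_range (a := 11215) (len := 3293) h4 e6_4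
  have h6 : ∀ u < 17038, (fun u => chkE tab 6 u) u = true := ext_range (a := 14508) (len := 2530) h5 e6_5
  exact h6

theorem hE7 : ∀ u < 17038, chkE tab 7 u = true := by
  have h0 : ∀ u < 0, (fun u => chkE tab 7 u) u = true := range_zero
  have h1 : ∀ u < 2350, (fun u => chkE tab 7 u) u = true := ext_range (a := 0) (len := 2350) h0 e7_0
  have h2 : ∀ u < 5046, (fun u => chkE tab 7 u) u = true := ext_range (a := 2350) (len := 2696) h1 e7_1
  have h3 : ∀ u < 8474, (fun u => chkE tab 7 u) u = true := ext_range (a := 5046) (len := 3428) h2 e7_2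
  have h4 : ∀ u < 12062, (fun u => chkE tab 7 u) u = true := ext_range (a := 8474) (len := 3588) h3 e7_3
  have h5 : ∀ u < 17038, (fun u => chkE tab 7 u) u = true := ext_range (a := 12062) (len := 4976) h4 e7_4
  exact h5

theorem hL : ∀ u < 17038, chkL tab u = true := by
  have h0 : ∀ u < 0, (fun u => chkL tab u) u = true := range_zero
  have h1 : ∀ u < 3270, (fun u => chkL tab u) u = true := ext_range (a := 0) (len := 3270) h0 l_0
  have h2 : ∀ u < 5360, (fun u => chkL tab u) u = true := ext_range (a := 3270) (len := 2090) h1 l_1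
  have h3 : ∀ u < 7282, (fun u => chkL tab u) u = true := ext_range (a := 5360) (len := 1922) h2 l_2
  have h4 : ∀ u < 9054, (fun u => chkL tab u) u = true := ext_range (a := 7282) (len := 1772) h3 l_3
  have h5 : ∀ u < 10849, (fun u => chkL tab u) u = true := ext_range (a := 9054) (len := 1795) h4 l_4
  have h6 : ∀ u < 12575, (fun u => chkL tab u) u = true := ext_range (a := 10849) (len := 1726) h5 l_5
  have h7 : ∀ u < 14185, (fun u => chkL tab u) u = true := ext_range (a := 12575) (len := 1610) h6 l_6
  have h8 : ∀ u < 15852, (fun u => chkL tab u) u = true := ext_range (a := 14185) (len := 1667) h7 l_7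
  have h9 : ∀ u < 17038, (fun u => chkL tab u) u = true := ext_range (a := 15852) (len := 1186) h8 l_8
  exact h9

theorem hF : ∀ u < 3159, chkFin tab u = true := by
  have h0 : ∀ u < 0, (fun u => chkFin tab u) u = true := range_zero
  have h1 : ∀ u < 308, (fun u => chkFin tab u) u = true := ext_range (a := 0) (len := 308) h0 f_0
  have h2 : ∀ u < 616, (fun u => chkFin tab u) u = true := ext_range (a := 308) (len := 308) h1 f_1
  have h3 : ∀ u < 924, (fun u => chkFin tab u) u = true := ext_range (a := 616) (len := 308) h2 f_2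
  have h4 : ∀ u < 1232, (fun u => chkFin tab u) u = true := ext_range (a := 924) (len := 308) h3 f_3
  have h5 : ∀ u < 1540, (fun u => chkFin tab u) u = true := ext_range (a := 1232) (len := 308) h4 f_4
  have h6 : ∀ u < 1848, (fun u => chkFin tab u) u = true := ext_range (a := 1540) (len := 308) h5 f_5
  have h7 : ∀ u < 2156, (fun u => chkFin tab u) u = true := ext_range (a := 1848) (len := 308) h6 f_6
  have h8 : ∀ u < 2464, (fun u => chkFin tab u) u = true := ext_range (a := 2156) (len := 308) h7 f_7
  have h9 : ∀ u < 2772, (fun u => chkFin tab u) u = true := ext_range (a := 2464) (len := 308) h8 f_8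
  have h10 : ∀ u < 3080, (fun u => chkFin tab u) u = true := ext_range (a := 2772) (len := 308) h9 f_9
  have h11 : ∀ u < 3159, (fun u => chkFin tab u) u = true := ext_range (a := 3080) (len := 79) h10 f_10
  exact h11

theorem hC : ∀ u < 17038, chkCls tab u = true := by
  have h0 : ∀ u < 0, (fun u => chkCls tab u) u = true := range_zero
  have h1 : ∀ u < 2667, (fun u => chkCls tab u) u = true := ext_range (a := 0) (len := 2667) h0 c_0
  have h2 : ∀ u < 5334, (fun u => chkCls tab u) u = true := ext_range (a := 2667) (len := 2667) h1 c_1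
  have h3 : ∀ u < 8001, (fun u => chkCls tab u) u = true := ext_range (a := 5334) (len := 2667) h2 c_2
  have h4 : ∀ u < 10668, (fun u => chkCls tab u) u = true := ext_range (a := 8001) (len := 2667) h3 c_3
  have h5 : ∀ u < 13335, (fun u => chkCls tab u) u = true := ext_range (a := 10668) (len := 2667) h4 c_4
  have h6 : ∀ u < 16002, (fun u => chkCls tab u) u = true := ext_range (a := 13335) (len := 2667) h5 c_5
  have h7 : ∀ u < 17038, (fun u => chkCls tab u) u = true := ext_range (a := 16002) (len := 1036) h6 c_6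
  exact h7

theorem hM1 : ∀ u < 3159, chkM1 tab u = true := by
  have h0 : ∀ u < 0, (fun u => chkM1 tab u) u = true := range_zero
  have h1 : ∀ u < 793, (fun u => chkM1 tab u) u = true := ext_range (a := 0) (len := 793) h0 m1_0
  have h2 : ∀ u < 1586, (fun u => chkM1 tab u) u = true := ext_range (a := 793) (len := 793) h1 m1_1
  have h3 : ∀ u < 2379, (fun u => chkM1 tab u) u = true := ext_range (a := 1586) (len := 793) h2 m1_2
  have h4 : ∀ u < 3159, (fun u => chkM1 tab u) u = true := ext_range (a := 2379) (len := 780) h3 m1_3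
  exact h4

theorem hMA : ∀ u < 3159, chkAux tab aux u = true := by
  have h0 : ∀ u < 0, (fun u => chkAux tab aux u) u = true := range_zero
  have h1 : ∀ u < 690, (fun u => chkAux tab aux u) u = true := ext_range (a := 0) (len := 690) h0 ma_0
  have h2 : ∀ u < 1380, (fun u => chkAux tab aux u) u = true := ext_range (a := 690) (len := 690) h1 ma_1
  have h3 : ∀ u < 2070, (fun u => chkAux tab aux u) u = true := ext_range (a := 1380) (len := 690) h2 ma_2
  have h4 : ∀ u < 2760, (fun u => chkAux tab aux u) u = true := ext_range (a := 2070) (len := 690) h3 ma_3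
  have h5 : ∀ u < 3159, (fun u => chkAux tab aux u) u = true := ext_range (a := 2760) (len := 399) h4 ma_4
  exact h5

theorem hM2A : ∀ u < 3159, chkFix tab mwordsA u = true := by
  have h0 : ∀ u < 0, (fun u => chkFix tab mwordsA u) u = true := range_zero
  have h1 : ∀ u < 92, (fun u => chkFix tab mwordsA u) u = true := ext_range (a := 0) (len := 92) h0 m2_0
  have h2 : ∀ u < 184, (fun u => chkFix tab mwordsA u) u = true := ext_range (a := 92) (len := 92) h1 m2_1
  have h3 : ∀ u < 276, (fun u => chkFix tab mwordsA u) u = true := ext_range (a := 184) (len := 92) h2 m2_2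
  have h4 : ∀ u < 368, (fun u => chkFix tab mwordsA u) u = true := ext_range (a := 276) (len := 92) h3 m2_3
  have h5 : ∀ u < 460, (fun u => chkFix tab mwordsA u) u = true := ext_range (a := 368) (len := 92) h4 m2_4
  have h6 : ∀ u < 552, (fun u => chkFix tab mwordsA u) u = true := ext_range (a := 460) (len := 92) h5 m2_5
  have h7 : ∀ u < 644, (fun u => chkFix tab mwordsA u) u = true := ext_range (a := 552) (len := 92) h6 m2_6
  have h8 : ∀ u < 736, (fun u => chkFix tab mwordsA u) u = true := ext_range (a := 644) (len := 92) h7 m2_7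
  have h9 : ∀ u < 828, (fun u => chkFix tab mwordsA u) u = true := ext_range (a := 736) (len := 92) h8 m2_8
  have h10 : ∀ u < 920, (fun u => chkFix tab mwordsA u) u = true := ext_range (a := 828) (len := 92) h9 m2_9
  have h11 : ∀ u < 1012, (fun u => chkFix tab mwordsA u) u = true := ext_range (a := 920) (len := 92) h10 m2_10
  have h12 : ∀ u < 1104, (fun u => chkFix tab mwordsA u) u = true := ext_range (a := 1012) (len := 92) h11 m2_11
  have h13 : ∀ u < 1196, (fun u => chkFix tab mwordsA u) u = true := ext_range (a := 1104) (len := 92) h12 m2_12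
  have h14 : ∀ u < 1288, (fun u => chkFix tab mwordsA u) u = true := ext_range (a := 1196) (len := 92) h13 m2_13
  have h15 : ∀ u < 1380, (fun u => chkFix tab mwordsA u) u = true := ext_range (a := 1288) (len := 92) h14 m2_14
  have h16 : ∀ u < 1472, (fun u => chkFix tab mwordsA u) u = true := ext_range (a := 1380) (len := 92) h15 m2_15
  have h17 : ∀ u < 1564, (fun u => chkFix tab mwordsA u) u = true := ext_range (a := 1472) (len := 92) h16 m2_16
  have h18 : ∀ u < 1656, (fun u => chkFix tab mwordsA u) u = true := ext_range (a := 1564) (len := 92) h17 m2_17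
  have h19 : ∀ u < 1748, (fun u => chkFix tab mwordsA u) u = true := ext_range (a := 1656) (len := 92) h18 m2_18
  have h20 : ∀ u < 1840, (fun u => chkFix tab mwordsA u) u = true := ext_range (a := 1748) (len := 92) h19 m2_19
  have h21 : ∀ u < 1932, (fun u => chkFix tab mwordsA u) u = true := ext_range (a := 1840) (len := 92) h20 m2_20
  have h22 : ∀ u < 2024, (fun u => chkFix tab mwordsA u) u = true := ext_range (a := 1932) (len := 92) h21 m2_21
  have h23 : ∀ u < 2116, (fun u => chkFix tab mwordsA u) u = true := ext_range (a := 2024) (len := 92) h22 m2_22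
  have h24 : ∀ u < 2208, (fun u => chkFix tab mwordsA u) u = true := ext_range (a := 2116) (len := 92) h23 m2_23
  have h25 : ∀ u < 2300, (fun u => chkFix tab mwordsA u) u = true := ext_range (a := 2208) (len := 92) h24 m2_24
  have h26 : ∀ u < 2392, (fun u => chkFix tab mwordsA u) u = true := ext_range (a := 2300) (len := 92) h25 m2_25
  have h27 : ∀ u < 2484, (fun u => chkFix tab mwordsA u) u = true := ext_range (a := 2392) (len := 92) h26 m2_26
  have h28 : ∀ u < 2576, (fun u => chkFix tab mwordsA u) u = true := ext_range (a := 2484) (len := 92) h27 m2_27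
  have h29 : ∀ u < 2668, (fun u => chkFix tab mwordsA u) u = true := ext_range (a := 2576) (len := 92) h28 m2_28
  have h30 : ∀ u < 2760, (fun u => chkFix tab mwordsA u) u = true := ext_range (a := 2668) (len := 92) h29 m2_29
  have h31 : ∀ u < 2852, (fun u => chkFix tab mwordsA u) u = true := ext_range (a := 2760) (len := 92) h30 m2_30
  have h32 : ∀ u < 2944, (fun u => chkFix tab mwordsA u) u = true := ext_range (a := 2852) (len := 92) h31 m2_31
  have h33 : ∀ u < 3036, (fun u => chkFix tab mwordsA u) u = true := ext_range (a := 2944) (len := 92) h32 m2_32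
  have h34 : ∀ u < 3128, (fun u => chkFix tab mwordsA u) u = true := ext_range (a := 3036) (len := 92) h33 m2_33
  have h35 : ∀ u < 3159, (fun u => chkFix tab mwordsA u) u = true := ext_range (a := 3128) (len := 31) h34 m2_34
  exact h35

theorem hE : ∀ c < 8, ∀ u < 17038, chkE tab c u = true := by
  intro c hc
  interval_cases c
  · exact hE0
  · exact hE1
  · exact hE2
  · exact hE3
  · exact hE4
  · exact hE5
  · exact hE6
  · exact hE7

end Cfsg.Agent.Helper9.TCData.Fi22C1
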